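import Mathlib.AlgebraicGeometry.Limits
import Mathlib.AlgebraicGeometry.IdealSheaf.Functorial
import Groth.Agent.Lib.EffCartier.Basic
import Groth.Agent.Lib.BlowUpExist.Glue

/-!
# Ideal sheaves on a disjoint union
-/

universe u

open CategoryTheory CategoryTheory.Limits AlgebraicGeometry TopologicalSpace

namespace Groth.Agent.SigmaIdeal

variable {σ : Type u} (X : σ → Scheme.{u}) (I : ∀ i, (X i).IdealSheafData)

/-- The disjoint union of the closed subschemes. -/
noncomputable def sigmaSubschemeι : (∐ fun i => (I i).subscheme) ⟶ ∐ X := Limits.Sigma.map fun i => (I i).subschemeι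

lemma isPullback_sigmaSubschemeι (i : σ) :
    IsPullback (I i).subschemeι (Sigma.ι (fun i => (I i).subscheme) i) (Sigma.ι X i) (sigmaSubschemeι X I) := by
  refine IsOpenImmersion.isPullback _ _ _ _ (by simp [sigmaSubschemeι, Limits.Sigma.map]) ?_
  ext x
  obtain ⟨⟨j, y⟩, rfl⟩ := (sigmaMk fun i => (I i).subscheme).surjective x
  rw [sigmaMk_mk]
  have h : sigmaSubschemeι X I (Sigma.ι (fun i => (I i).subscheme) j y) = Sigma.ι X j ((I j).subschemeι y) := by
    rw [← Scheme.Hom.comp_apply, ← Scheme.Hom.comp_apply]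
    simp [sigmaSubschemeι, Limits.Sigma.map]
  constructor
  · rintro ⟨z, hz⟩
    rw [h] at hz
    obtain rfl : i = j := by
      by_contra hij
      exact Set.disjoint_left.mp (TopologicalSpace.Opens.coe_disjoint.mpr
        (disjoint_opensRange_sigmaι X i j hij)) ⟨z, hz⟩ ⟨_, rfl⟩
    exact ⟨y, rfl⟩
  · rintro ⟨z, hz⟩
    show sigmaSubschemeι X I _ ∈ Set.range _
    obtain rfl : i = j := by
      by_contra hij
      exact Set.disjoint_left.mp (TopologicalSpace.Opens.coe_disjoint.mpr
        (disjoint_opensRange_sigmaι (fun i => (I i).subscheme) i j hij)) ⟨z, hz⟩ ⟨_, rfl⟩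
    exact ⟨_, h.symm⟩

instance isClosedImmersion_sigmaSubschemeι : IsClosedImmersion (sigmaSubschemeι X I) := by
  refine IsZariskiLocalAtTarget.of_openCover (P := @IsClosedImmersion) (sigmaOpenCover X) fun i => ?_
  have h := (isPullback_sigmaSubschemeι X I i).flip
  show IsClosedImmersion (pullback.snd (sigmaSubschemeι X I) (Sigma.ι X i))
  rw [← IsPullback.isoPullback_inv_snd h]
  infer_instance

/-- The ideal sheaf on the disjoint union restricting to the given ones. -/
noncomputable def sigmaIdeal : (∐ X).IdealSheafData := (sigmaSubschemeι X I).ker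

lemma comap_ι (i : σ) : (sigmaIdeal X I).comap (Sigma.ι X i) = I i := by
  rw [sigmaIdeal, ← Scheme.IdealSheafData.ker_fst_of_isClosedImmersion,
    ← IsPullback.isoPullback_inv_fst (isPullback_sigmaSubschemeι X I i), Scheme.Hom.ker_comp_of_isIso,
    Scheme.IdealSheafData.ker_subschemeι]

lemma isEffCartierIdeal (h : ∀ i, BlowUp.IsEffCartierIdeal (I i)) : BlowUp.IsEffCartierIdeal (sigmaIdeal X I) :=
  BlowUpExist.isEffCartierIdeal_of_cover (fun i => Sigma.ι X i) (fun x => by
    obtain ⟨⟨j, y⟩, rfl⟩ := (sigmaMk X).surjective x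
    exact ⟨j, y, (sigmaMk_mk X j y).symm⟩) fun i => by rw [comap_ι]; exact h i

variable {X} in
lemma le_of_comap_ι_le {A B : (∐ X).IdealSheafData} (h : ∀ i, A.comap (Sigma.ι X i) ≤ B.comap (Sigma.ι X i)) : A ≤ B := by
  rw [← sup_eq_right]
  refine BlowUpExist.eq_of_cover (fun i => Sigma.ι X i) (fun x => ?_) fun i => ?_
  · obtain ⟨⟨j, y⟩, rfl⟩ := (sigmaMk X).surjective x
    exact ⟨j, y, (sigmaMk_mk X j y).symm⟩
  · rw [Scheme.IdealSheafData.comap_sup, sup_eq_right]; exact h i

end Groth.Agent.SigmaIdeal
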